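import Groth.Agent.CompBCLib.Compat
import Groth.Agent.BCVertLib.KilledEfface
import Groth.Agent.RpushTorsLib.LTors

/-!
# The comparison condition along a base change, for sheaves killed by an integer
-/

set_option autoImplicit false
set_option backward.isDefEq.respectTransparency false
set_option backward.isDefEq.respectTransparency.types false
set_option linter.style.haveILetI false
set_option maxHeartbeats 1000000

universe u

open CategoryTheory CategoryTheory.Limits AlgebraicGeometry Opposite CategoryTheory.Abelian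

noncomputable section

namespace Groth.Agent.CompBCLib

theorem isLTorsion_of_killedBy {X : Scheme.{u}} {L : Set ℕ} {N : ℕ} (hN : EtAcyc.PrimesIn L N) {F : EtCoh.Ab X}
    (hF : EtCoh.KilledBy N F) : EtAcyc.IsLTorsion L F := fun U s x =>
  ⟨U, 𝟙 U, N, ⟨x, rfl⟩, hN, hF _ _⟩

theorem killedBy_push {X S : Scheme.{u}} (p : X ⟶ S) {N : ℕ} {F : EtCoh.Ab X} (hF : EtCoh.KilledBy N F) :
    EtCoh.KilledBy N ((EtCoh.push p).obj F) := by
  haveI : (EtCoh.push p).Additive := (EtCoh.pullPushAdj p).right_adjoint_additive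
  rw [FLCLib.killedBy_iff]
  refine Eq.trans ?_ ((congrArg (EtCoh.push p).map ((FLCLib.killedBy_iff N F).1 hF)).trans (Functor.map_zero _ _ _))
  rw [Functor.map_nsmul, CategoryTheory.Functor.map_id]

/-- `hb` satisfies the comparison condition in degree `q` for the sheaf `F`. -/
def CmpAt {X Y : Scheme.{u}} (g : Y ⟶ X) [PreservesFiniteLimits (EtCoh.pull g)] (n : ℕ) (F : EtCoh.Ab X) (q : ℕ) :
    Prop :=
  (q ≤ n → Function.Bijective (EtCore.Hpull g F q)) ∧ (q ≤ n + 1 → Function.Injective (EtCore.Hpull g F q))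

section Square

variable {X Y Xb Yb : Scheme.{u}} (h : Y ⟶ X) (p : Xb ⟶ X) (hb : Yb ⟶ Xb) (pY : Yb ⟶ Y)
  (w : hb ≫ p = pY ≫ h) [PreservesFiniteLimits (EtCoh.pull hb)] {L : Set ℕ} {n : ℕ}

theorem isIso_baseChange0 (F : EtCoh.Ab Xb) (hbc : IsIso (EtBC.bcQ p h pY hb w 0 F)) :
    IsIso (EtCoh.baseChange0 p h pY hb w F) := by
  haveI : PreservesFiniteLimits (EtCoh.push p) :=
    (EtCoh.pullPushAdj p).rightAdjoint_preservesLimits.{0, 0}.preservesFiniteLimits
  haveI : PreservesFiniteLimits (EtCoh.push pY) :=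
    (EtCoh.pullPushAdj pY).rightAdjoint_preservesLimits.{0, 0}.preservesFiniteLimits
  haveI := hbc
  haveI : IsIso (EtCoh.baseChange0 p h pY hb w F ≫
      (EtCoh.push pY).toRightDerivedZero.app ((EtCoh.pull hb).obj F)) := by
    rw [← EtBC.bcQ_zero_compat p h pY hb w F]
    infer_instance
  exact IsIso.of_isIso_comp_right _ ((EtCoh.push pY).toRightDerivedZero.app ((EtCoh.pull hb).obj F))

/-- The key diagram: pullback along `hb` of a class from `X`. -/
theorem cmpAt_of_acyclic (hh : EtAcyc.CompN h L n) (F : EtCoh.Ab Xb)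
    (hL : EtAcyc.IsLTorsion L ((EtCoh.push p).obj F)) (q : ℕ)
    (hR : ∀ r : ℕ, 1 ≤ r → r ≤ q → IsZero ((EtCoh.Rpush p r).obj F))
    (hR' : ∀ r : ℕ, 1 ≤ r → r ≤ q → r ≤ n → IsZero ((EtCoh.Rpush pY r).obj ((EtCoh.pull hb).obj F)))
    (hbc : IsIso (EtBC.bcQ p h pY hb w 0 F)) :
    CmpAt hb n F q := by
  haveI := S0101.result h
  haveI := S0101.result p
  haveI := S0101.result pY
  haveI := isIso_baseChange0 h p hb pY w F hbc
  have hp := (AcycCompLib.bijective_HofPush p F q q hR).1 le_rfl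
  have hsq : ⇑(EtCore.Hpull hb F q) ∘ ⇑(EtLim.HofPush p F q) =
      ⇑(EtLim.HofPush pY ((EtCoh.pull hb).obj F) q) ∘
        ⇑((EtCoh.HF Y q).map (EtCoh.baseChange0 p h pY hb w F)).hom ∘ ⇑(EtCore.Hpull h ((EtCoh.push p).obj F) q) :=
    funext fun x => Hpull_HofPush h p hb pY w F q x
  have hiso : Function.Bijective ⇑((EtCoh.HF Y q).map (EtCoh.baseChange0 p h pY hb w F)).hom :=
    ConcreteCategory.bijective_of_isIso ((EtCoh.HF Y q).map (EtCoh.baseChange0 p h pY hb w F))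
  obtain ⟨hh₁, hh₂⟩ := hh _ hL
  constructor
  · intro hq
    refine (Function.Bijective.of_comp_iff _ hp).1 ?_
    rw [hsq]
    exact ((AcycCompLib.bijective_HofPush pY _ q q fun r h1 h2 => hR' r h1 h2 (h2.trans hq)).1 le_rfl).comp
      (hiso.comp (hh₁ q hq))
  · intro hq
    refine (Function.Injective.of_comp_iff' _ hp).1 ?_
    rw [hsq]
    have hY : Function.Injective (EtLim.HofPush pY ((EtCoh.pull hb).obj F) q) := by
      rcases Nat.lt_or_ge n q with hlt | hge
      · exact (AcycCompLib.bijective_HofPush pY _ q n fun r h1 h2 => hR' r h1 (h2.trans hlt.le) h2).2 hq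
      · exact ((AcycCompLib.bijective_HofPush pY _ q q fun r h1 h2 => hR' r h1 h2 (h2.trans hge)).1 le_rfl).1
    refine hY.comp (hiso.1.comp ?_)
    rcases Nat.lt_or_ge n q with hlt | hge
    · rwa [show q = n + 1 by omega]
    · exact (hh₁ q hge).1

end Square

section Induction

variable {X Y : Scheme.{u}} (g : Y ⟶ X) [PreservesFiniteLimits (EtCoh.pull g)] {n : ℕ}
  {S : ShortComplex (EtCoh.Ab X)} (hS : S.ShortExact) {q : ℕ}

include hS

theorem Hpull_δ (x : EtCoh.H X S.X₃ q) :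
    EtCore.Hpull g S.X₁ (q + 1) (x.comp hS.extClass rfl) =
      (EtCore.Hpull g S.X₃ q x).comp (hS.map_of_exact (EtCoh.pull g)).extClass rfl := by
  have e := EtLimLib.HpullThen_extClass g hS (hS.map_of_exact (EtCoh.pull g)) (𝟙 _) x
  rw [← KPi1Lib.HpullThen_id' g S.X₁, ← KPi1Lib.HpullThen_id' g S.X₃]
  exact e

omit hS in
theorem Hpull_map {A B : EtCoh.Ab X} (a : A ⟶ B) (x : EtCoh.H X A q) :
    EtCore.Hpull g B q (Sheaf.H.map a q x) = Sheaf.H.map ((EtCoh.pull g).map a) q (EtCore.Hpull g A q x) := by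
  rw [← KPi1Lib.HpullThen_id' g B, ← KPi1Lib.HpullThen_id' g A]
  exact (EtLimLib.HpullThen_natural g (𝟙 _) (𝟙 _) a ((EtCoh.pull g).map a)
    ((Category.id_comp _).trans (Category.comp_id _).symm) q x).symm

theorem injective_succ (hq : q ≤ n) (h2 : CmpAt g n S.X₂ q) (h3 : CmpAt g n S.X₃ q) (h2' : CmpAt g n S.X₂ (q + 1)) :
    Function.Injective (EtCore.Hpull g S.X₁ (q + 1)) := by
  refine (injective_iff_map_eq_zero _).2 fun a ha => ?_
  have hf : Sheaf.H.map S.f (q + 1) a = 0 := by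
    refine h2'.2 (by omega) ?_
    rw [Hpull_map g S.f a, ha, map_zero, map_zero]
  obtain ⟨b, rfl⟩ := Ext.covariant_sequence_exact₁ _ hS a hf (rfl : q + 1 = q + 1)
  rw [Hpull_δ g hS b] at ha
  obtain ⟨c', hc'⟩ := Ext.covariant_sequence_exact₃ _ (hS.map_of_exact (EtCoh.pull g)) _ (rfl : q + 1 = q + 1) ha
  obtain ⟨c, rfl⟩ := (h2.1 hq).2 c'
  have hb : Sheaf.H.map S.g q c = b := h3.2 (by omega) ((Hpull_map g S.g c).trans hc')
  subst hb
  show (Ext.comp c (Ext.mk₀ S.g) (add_zero q)).comp _ _ = 0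
  rw [Ext.comp_assoc_of_second_deg_zero, hS.comp_extClass, Ext.comp_zero]

theorem surjective_succ (hq : q + 1 ≤ n) (h3 : CmpAt g n S.X₃ q) (h2' : CmpAt g n S.X₂ (q + 1))
    (h3' : Function.Injective (EtCore.Hpull g S.X₃ (q + 1))) :
    Function.Surjective (EtCore.Hpull g S.X₁ (q + 1)) := by
  intro a'
  obtain ⟨e, he⟩ := (h2'.1 hq).2 (Sheaf.H.map ((EtCoh.pull g).map S.f) (q + 1) a')
  have hS' := hS.map_of_exact (EtCoh.pull g)
  have hge : Sheaf.H.map S.g (q + 1) e = 0 := by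
    refine h3' ?_
    rw [Hpull_map g S.g e, he, map_zero]
    show (Ext.comp a' (Ext.mk₀ ((EtCoh.pull g).map S.f)) (add_zero _)).comp (Ext.mk₀ ((EtCoh.pull g).map S.g))
      (add_zero _) = 0
    rw [Ext.comp_assoc_of_second_deg_zero, Ext.mk₀_comp_mk₀, ← Functor.map_comp, S.zero, Functor.map_zero,
      Ext.mk₀_zero, Ext.comp_zero]
  obtain ⟨a₀, rfl⟩ := Ext.covariant_sequence_exact₂ _ hS e hge
  have hd : Sheaf.H.map ((EtCoh.pull g).map S.f) (q + 1) (a' - EtCore.Hpull g S.X₁ (q + 1) a₀) = 0 := by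
    rw [map_sub, ← he, sub_eq_zero]
    exact Hpull_map g S.f a₀
  obtain ⟨b', hb'⟩ := Ext.covariant_sequence_exact₁ _ hS' _ hd (rfl : q + 1 = q + 1)
  obtain ⟨b, rfl⟩ := (h3.1 (by omega)).2 b'
  refine ⟨a₀ + b.comp hS.extClass rfl, ?_⟩
  rw [map_add, Hpull_δ g hS b]
  exact (congrArg (EtCore.Hpull g S.X₁ (q + 1) a₀ + ·) hb').trans (add_sub_cancel _ _)

end Induction

section Killed

variable {X Y Xb Yb : Scheme.{u}} (h : Y ⟶ X) (p : Xb ⟶ X) (hb : Yb ⟶ Xb) (pY : Yb ⟶ Y)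
  (w : hb ≫ p = pY ≫ h) [PreservesFiniteLimits (EtCoh.pull hb)] {L : Set ℕ} {n : ℕ} {N : ℕ}
  (hN : EtAcyc.PrimesIn L N) (hh : EtAcyc.CompN h L n)
  (hbc : ∀ Fb : EtCoh.Ab Xb, EtCoh.KilledBy N Fb → ∀ i : ℕ, i ≤ n → IsIso (EtBC.bcQ p h pY hb w i Fb))

include hN hh hbc

/-- The comparison condition holds for sheaves killed by `N`. -/
theorem cmpAt_killed : ∀ (q : ℕ) (F : EtCoh.Ab Xb), EtCoh.KilledBy N F → CmpAt hb n F q := by
  intro q
  induction q with
  | zero =>
    intro F hF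
    exact cmpAt_of_acyclic h p hb pY w hh F (isLTorsion_of_killedBy hN (killedBy_push p hF)) 0
      (fun r h1 h2 => by omega) (fun r h1 h2 => by omega) (hbc F hF 0 (Nat.zero_le n))
  | succ q ih =>
    haveI : PreservesFiniteColimits (EtCoh.pull hb) := inferInstance
    have hacyc : ∀ E : EtCoh.Ab Xb, EtCoh.KilledBy N E → (∀ r, IsZero ((EtCoh.Rpush p (r + 1)).obj E)) →
        CmpAt hb n E (q + 1) := fun E hE hR =>
      cmpAt_of_acyclic h p hb pY w hh E (isLTorsion_of_killedBy hN (killedBy_push p hE)) (q + 1)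
        (fun r h1 _ => by
          obtain ⟨r, rfl⟩ := Nat.exists_eq_succ_of_ne_zero (Nat.one_le_iff_ne_zero.1 h1)
          exact hR r)
        (fun r h1 _ hrn => by
          haveI := hbc E hE r hrn
          obtain ⟨r, rfl⟩ := Nat.exists_eq_succ_of_ne_zero (Nat.one_le_iff_ne_zero.1 h1)
          haveI : (EtCoh.pull h).Additive := (EtCoh.pullPushAdj h).left_adjoint_additive
          exact ((EtCoh.pull h).map_isZero (hR r)).of_iso (asIso (EtBC.bcQ p h pY hb w (r + 1) E)).symm)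
        (hbc E hE 0 (Nat.zero_le n))
    have main : ∀ F : EtCoh.Ab Xb, EtCoh.KilledBy N F → ∃ (S : ShortComplex (EtCoh.Ab Xb)) (_ : S.X₁ = F),
        S.ShortExact ∧ EtCoh.KilledBy N S.X₂ ∧ EtCoh.KilledBy N S.X₃ ∧
        ∀ r, IsZero ((EtCoh.Rpush p (r + 1)).obj S.X₂) := fun F hF => by
      obtain ⟨K, u, hu, hK, hR⟩ := BCVertLib.exists_killed_acyclic p hF
      exact ⟨ShortComplex.mk u (cokernel.π u) (cokernel.condition u), rfl,
        { exact := ShortComplex.exact_cokernel u }, hK, BCVertLib.killedBy_of_epi (cokernel.π u) hK, hR⟩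
    have hinj : q ≤ n → ∀ F : EtCoh.Ab Xb, EtCoh.KilledBy N F → Function.Injective (EtCore.Hpull hb F (q + 1)) := by
      intro hq F hF
      obtain ⟨S, rfl, hS, h2, h3, hR⟩ := main F hF
      exact injective_succ hb hS hq (ih _ h2) (ih _ h3) (hacyc _ h2 hR)
    intro F hF
    refine ⟨fun hq => ⟨hinj (by omega) F hF, ?_⟩, fun hq => hinj (by omega) F hF⟩
    obtain ⟨S, rfl, hS, h2, h3, hR⟩ := main F hF
    exact surjective_succ hb hS hq (ih _ h3) (hacyc _ h2 hR) (hinj (by omega) _ h3)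

end Killed

end Groth.Agent.CompBCLib
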