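import Groth.Agent.CompBCLib.Killed
import Groth.Agent.EtLimLib.Bridge

/-!
# The relative pullback `HpullVia` along a square
-/

set_option autoImplicit false
set_option backward.isDefEq.respectTransparency false
set_option backward.isDefEq.respectTransparency.types false
set_option linter.style.haveILetI false
set_option maxHeartbeats 1000000

universe u

open CategoryTheory CategoryTheory.Limits AlgebraicGeometry Opposite CategoryTheory.Abelian
open Groth.Agent.EtLimLib Groth.Agent.BCVertLib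

noncomputable section

namespace Groth.Agent.CompBCLib

section Via

variable {A B C : Scheme.{u}} (t : B ⟶ A) (f : C ⟶ B) (m : C ⟶ A) (w : f ≫ t = m)

theorem comparePull_via (F : EtCoh.Ab A) :
    (comparePull t f m w).app F = (((EtCore.pullComp f t).symm ≪≫ EtCore.pullCongr w).app F).inv := by
  subst w
  refine (comparePull_eq t f (f ≫ t) rfl F).trans ?_
  rfl

theorem HpullVia_eq [PreservesFiniteLimits (EtCoh.pull f)] (F : EtCoh.Ab A) (n : ℕ)
    (x : EtCoh.H B ((EtCoh.pull t).obj F) n) :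
    EtCore.HpullVia f t m w F n x =
      Sheaf.H.map (((EtCore.pullComp f t).symm ≪≫ EtCore.pullCongr w).app F).hom n
        (EtCore.Hpull f ((EtCoh.pull t).obj F) n x) := rfl

theorem H_map_map {Z : Scheme.{u}} {a b c : EtCoh.Ab Z} (f : a ⟶ b) (g : b ⟶ c) (n : ℕ) (x : EtCoh.H Z a n) :
    Sheaf.H.map g n (Sheaf.H.map f n x) = Sheaf.H.map (f ≫ g) n x := by
  show (Ext.comp x (Ext.mk₀ f) (add_zero n)).comp (Ext.mk₀ g) (add_zero n) = Ext.comp x (Ext.mk₀ (f ≫ g)) (add_zero n)
  rw [Ext.comp_assoc_of_second_deg_zero, Ext.mk₀_comp_mk₀]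

theorem H_map_id {Z : Scheme.{u}} {a : EtCoh.Ab Z} (n : ℕ) (x : EtCoh.H Z a n) : Sheaf.H.map (𝟙 a) n x = x :=
  Ext.comp_mk₀_id x

/-- Relative pullback of a class pulled back from the base. -/
theorem HpullVia_Hpull [PreservesFiniteLimits (EtCoh.pull t)] [PreservesFiniteLimits (EtCoh.pull f)]
    [PreservesFiniteLimits (EtCoh.pull m)] (F : EtCoh.Ab A) (n : ℕ) (x : EtCoh.H A F n) :
    EtCore.HpullVia f t m w F n (EtCore.Hpull t F n x) = EtCore.Hpull m F n x := by
  rw [HpullVia_eq]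
  have e : Sheaf.H.map ((comparePull t f m w).app F) n (EtCore.Hpull m F n x) =
      EtCore.Hpull f ((EtCoh.pull t).obj F) n (EtCore.Hpull t F n x) :=
    congrFun (AcycCompLib.Hpull_comp t f m w F n) x
  refine (congrArg (Sheaf.H.map _ n) e.symm).trans ((H_map_map _ _ n _).trans ?_)
  rw [comparePull_via, Iso.inv_hom_id]
  exact H_map_id n _

theorem HpullVia_natural [PreservesFiniteLimits (EtCoh.pull f)] {F F' : EtCoh.Ab A} (a : F ⟶ F') (n : ℕ)
    (x : EtCoh.H B ((EtCoh.pull t).obj F) n) :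
    EtCore.HpullVia f t m w F' n (Sheaf.H.map ((EtCoh.pull t).map a) n x) =
      Sheaf.H.map ((EtCoh.pull m).map a) n (EtCore.HpullVia f t m w F n x) := by
  rw [HpullVia_eq, HpullVia_eq, Hpull_map f ((EtCoh.pull t).map a) x]
  refine (H_map_map _ _ n _).trans (Eq.trans ?_ (H_map_map _ _ n _).symm)
  exact congrArg (fun k => Sheaf.H.map k n (EtCore.Hpull f ((EtCoh.pull t).obj F) n x))
    (((EtCore.pullComp f t).symm ≪≫ EtCore.pullCongr w).hom.naturality a)

end Via

section Square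

variable {X S X' S' : Scheme.{u}} (f : X ⟶ S) (g : S' ⟶ S) (f' : X' ⟶ S') (g' : X' ⟶ X) (w : g' ≫ f = f' ≫ g)

/-- The unit after a base change, explicitly. -/
theorem pull_unit_baseChange0 (F : EtCoh.Ab S) :
    (EtCoh.pull g).map ((EtCoh.pullPushAdj f).unit.app F) ≫ EtCoh.baseChange0 f g f' g' w ((EtCoh.pull f).obj F) =
      (EtCoh.pullPushAdj f').unit.app ((EtCoh.pull g).obj F) ≫ (EtCoh.push f').map
        ((((EtCore.pullComp f' g).symm ≪≫ EtCore.pullCongr (rfl : f' ≫ g = f' ≫ g)).app F).hom ≫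
          (((EtCore.pullComp g' f).symm ≪≫ EtCore.pullCongr w).app F).inv) := by
  let τ₁ := ((EtCore.pullComp f' g).symm ≪≫ EtCore.pullCongr (rfl : f' ≫ g = f' ≫ g)).app F
  let τ₂ := ((EtCore.pullComp g' f).symm ≪≫ EtCore.pullCongr w).app F
  apply ((EtCoh.pullPushAdj g).homEquiv _ _).injective
  refine ((Adjunction.homEquiv_naturality_left _ _ _).trans (congrArg ((EtCoh.pullPushAdj f).unit.app F ≫ ·)
    (Equiv.apply_symm_apply _ _))).trans (Eq.trans ?_ ((EtCoh.pullPushAdj g).homEquiv_unit _ _ _).symm)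
  show (EtCoh.pullPushAdj f).unit.app F ≫ (EtCoh.push f).map ((EtCoh.pullPushAdj g').unit.app ((EtCoh.pull f).obj F)) ≫
      (sqNat f g f' g' w).hom.app _ = _
  rw [sqNat_eq, Functor.map_comp]
  have hn := pushJoin_natural g f' (f' ≫ g) rfl (τ₁.hom ≫ τ₂.inv)
  have e₁ := AcycCompLib.homEquiv_comparePull g f' (f' ≫ g) rfl F
  have e₂ := AcycCompLib.homEquiv_comparePull f g' (f' ≫ g) w F
  rw [comparePull_via g f' (f' ≫ g) rfl F] at e₁
  rw [comparePull_via f g' (f' ≫ g) w F] at e₂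
  have key : (EtCoh.pullPushAdj g).unit.app F ≫
      (EtCoh.push g).map ((EtCoh.pullPushAdj f').unit.app ((EtCoh.pull g).obj F)) ≫
        (EtCoh.push g).map ((EtCoh.push f').map (τ₁.hom ≫ τ₂.inv)) ≫ pushJoin g f' (f' ≫ g) rfl _ =
      (EtCoh.pullPushAdj f).unit.app F ≫ (EtCoh.push f).map ((EtCoh.pullPushAdj g').unit.app ((EtCoh.pull f).obj F)) ≫
        pushJoin f g' (f' ≫ g) w _ := by
    rw [hn]
    erw [← reassoc_of% e₁, ← e₂, ← Functor.map_comp, Iso.inv_hom_id_assoc]
  show _ = (EtCoh.pullPushAdj g).unit.app F ≫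
      (EtCoh.push g).map ((EtCoh.pullPushAdj f').unit.app ((EtCoh.pull g).obj F)) ≫
        (EtCoh.push g).map ((EtCoh.push f').map (τ₁.hom ≫ τ₂.inv))
  rw [← reassoc_of% key]
  simp only [pushJoin_pushSp, Category.comp_id]

end Square

end Groth.Agent.CompBCLib
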