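import Groth.Agent.CompBCLib.Killed
import Groth.Agent.FLCLib.Colim
import Groth.Agent.FLCLib.Ops
import Groth.Agent.CohColim.EtQC

/-!
# From constructible sheaves killed by an integer to torsion sheaves
-/

set_option autoImplicit false
set_option backward.isDefEq.respectTransparency false
set_option backward.isDefEq.respectTransparency.types false
set_option linter.style.haveILetI false
set_option maxHeartbeats 1000000

universe u

open CategoryTheory CategoryTheory.Limits AlgebraicGeometry Opposite CategoryTheory.Abelian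

noncomputable section

namespace Groth.Agent.CompBCLib

variable {X Y : Scheme.{u}} [CompactSpace X] [QuasiSeparatedSpace X] [CompactSpace Y] [QuasiSeparatedSpace Y]
  (g : Y ⟶ X) [PreservesFiniteLimits (EtCoh.pull g)] {L : Set ℕ} {n : ℕ}

/-- The property defining the system. -/
def LKilled (L : Set ℕ) : ObjectProperty (EtCoh.Ab X) := fun E =>
  EtPBC.IsConstructible E ∧ ∃ m, EtAcyc.PrimesIn L m ∧ EtCoh.KilledBy m E

theorem sysHyp {F : EtCoh.Ab X} (hF : EtAcyc.IsLTorsion L F) : FLCLib.SysHyp (LKilled (X := X) L) F := by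
  refine ⟨fun E hE => hE.1, fun {E E'} e hE => ?_, fun E hE t => ?_⟩
  · obtain ⟨hc, m, hm, hk⟩ := hE
    exact ⟨FLCLib.isConstructible_of_iso e hc, m, hm, BCVertLib.killedBy_of_epi e.hom hk⟩
  · obtain ⟨N, hN, hEN⟩ := FLCLib.exists_killedBy hE
    obtain ⟨a, b, rfl, ha, hb⟩ := RpushTorsLib.exists_split L N hN
    haveI := RpushTorsLib.isIso_nsmul hF hb
    let φ : E ⟶ E := a • 𝟙 E
    have hz : φ ≫ t = 0 := by
      rw [← cancel_mono (b • 𝟙 F), zero_comp, Category.assoc, Preadditive.comp_nsmul, Category.comp_id,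
        Preadditive.nsmul_comp, Category.id_comp, smul_smul]
      calc (a * b) • t = (a * b) • (𝟙 E ≫ t) := by rw [Category.id_comp]
        _ = ((a * b) • 𝟙 E) ≫ t := (Preadditive.nsmul_comp _ _ _).symm
        _ = 0 := by rw [(FLCLib.killedBy_iff (a * b) E).1 hEN, zero_comp]
    refine ⟨cokernel φ, ⟨(FLCLib.isConstructible_kernel_cokernel φ hE hE).2, a, ha, ?_⟩, cokernel.π φ,
      cokernel.desc φ t hz, cokernel.π_desc _ _ _⟩
    rw [FLCLib.killedBy_iff, ← cancel_epi (cokernel.π φ), comp_zero, Preadditive.comp_nsmul, Category.comp_id,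
      ← Category.id_comp (cokernel.π φ), ← Preadditive.nsmul_comp]
    exact cokernel.condition φ

/-- The comparison condition is checked on constructible sheaves killed by `L`-integers. -/
theorem compN_of_cmpAt (h : ∀ E : EtCoh.Ab X, LKilled L E → ∀ q, CmpAt g n E q) : EtAcyc.CompN g L n := by
  intro F hF _
  have H := sysHyp hF
  haveI := H.isFiltered
  obtain ⟨hc⟩ := H.nonempty_isColimit (RpushTorsLib.isTorsion_of_isLTorsion hF)
  let J := FLCLib.SysObj (LKilled (X := X) L) F
  let D : J ⥤ EtCoh.Ab X := FLCLib.sysDiag (LKilled (X := X) L) F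
  let c : Cocone D := FLCLib.sysCocone (LKilled (X := X) L) F
  haveI : PreservesColimit D (EtCoh.pull g) :=
    haveI : (EtCoh.pull g).IsLeftAdjoint := ⟨_, ⟨EtCoh.pullPushAdj g⟩⟩
    inferInstance
  have key : ∀ q, (q ≤ n → Function.Bijective (EtCore.Hpull g F q)) ∧
      (q ≤ n + 1 → Function.Injective (EtCore.Hpull g F q)) := by
    intro q
    haveI := CohColim.preserves_HF X q J
    haveI := CohColim.preserves_HF Y q J
    let hX := isColimitOfPreserves (EtCoh.HF X q) hc
    let hY := isColimitOfPreserves (EtCoh.HF Y q) (isColimitOfPreserves (EtCoh.pull g) hc)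
    have nat : ∀ (j : J) (y : EtCoh.H X (D.obj j) q),
        EtCore.Hpull g F q (Sheaf.H.map (c.ι.app j) q y) =
          Sheaf.H.map ((EtCoh.pull g).map (c.ι.app j)) q (EtCore.Hpull g (D.obj j) q y) :=
      fun j y => Hpull_map g (c.ι.app j) y
    have hinj : q ≤ n + 1 → Function.Injective (EtCore.Hpull g F q) := by
      intro hq
      refine (injective_iff_map_eq_zero _).2 fun x hx => ?_
      obtain ⟨j, y, rfl⟩ := Concrete.isColimit_exists_rep _ hX x
      have hx' : ((EtCoh.pull g ⋙ EtCoh.HF Y q).map (c.ι.app j)) (EtCore.Hpull g (D.obj j) q y) =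
          ((EtCoh.pull g ⋙ EtCoh.HF Y q).map (c.ι.app j)) (0 : EtCoh.H Y ((EtCoh.pull g).obj (D.obj j)) q) :=
        ((nat j y).symm.trans hx).trans (map_zero _).symm
      obtain ⟨k, a, b, hab⟩ := (Concrete.isColimit_rep_eq_iff_exists _ hY _ _).1 hx'
      have h0 : Sheaf.H.map ((EtCoh.pull g).map (D.map a)) q (EtCore.Hpull g (D.obj j) q y) = 0 :=
        hab.trans (map_zero (Sheaf.H.map ((EtCoh.pull g).map (D.map b)) q))
      rw [← Hpull_map g (D.map a) y] at h0
      have h1 : Sheaf.H.map (D.map a) q y = 0 := (h (D.obj k) k.hP q).2 hq (h0.trans (map_zero _).symm)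
      have h2 := congrArg (Sheaf.H.map (c.ι.app k) q) h1
      rw [map_zero] at h2
      refine Eq.trans ?_ h2
      show ((EtCoh.HF X q).map (c.ι.app j)) y = ((EtCoh.HF X q).map (c.ι.app k)) (((EtCoh.HF X q).map (D.map a)) y)
      rw [← ConcreteCategory.comp_apply, ← Functor.map_comp, c.w a]
      rfl
    refine ⟨fun hq => ⟨hinj (by omega), fun y' => ?_⟩, hinj⟩
    obtain ⟨j, z, rfl⟩ := Concrete.isColimit_exists_rep _ hY y'
    obtain ⟨y, rfl⟩ := ((h (D.obj j) j.hP q).1 hq).2 z
    exact ⟨Sheaf.H.map (c.ι.app j) q y, nat j y⟩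
  exact ⟨fun q hq => (key q).1 hq, (key (n + 1)).2 le_rfl⟩

end Groth.Agent.CompBCLib
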