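import Groth.Agent.CompBCLib.Derived
import Groth.Agent.CompBCLib.Torsion
import Groth.Agent.AcycCompLib.Basic
import Groth.Agent.EtPtsLib.UnitMono

/-!
# The comparison condition descends along a surjection
-/

set_option autoImplicit false
set_option backward.isDefEq.respectTransparency false
set_option backward.isDefEq.respectTransparency.types false
set_option linter.style.haveILetI false
set_option maxHeartbeats 1000000

universe u

open CategoryTheory CategoryTheory.Limits AlgebraicGeometry Opposite CategoryTheory.Abelian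

noncomputable section

namespace Groth.Agent.CompBCLib

section Zero

variable {X Y : Scheme.{u}} (g : Y ⟶ X)

theorem H0_map_injective {A B : EtCoh.Ab X} (a : A ⟶ B) [Mono a] : Function.Injective (Sheaf.H.map a 0) := by
  intro x y e
  obtain ⟨x, rfl⟩ := (Ext.mk₀_bijective _ _).2 x
  obtain ⟨y, rfl⟩ := (Ext.mk₀_bijective _ _).2 y
  change (Ext.mk₀ x).comp (Ext.mk₀ a) (add_zero 0) = (Ext.mk₀ y).comp (Ext.mk₀ a) (add_zero 0) at e
  rw [Ext.mk₀_comp_mk₀, Ext.mk₀_comp_mk₀] at e
  exact congrArg Ext.mk₀ ((cancel_mono a).1 ((Ext.mk₀_bijective _ _).1 e))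

variable [PreservesFiniteLimits (EtCoh.pull g)] {S : ShortComplex (EtCoh.Ab X)} (hS : S.ShortExact)

include hS

theorem injective_zero (h2 : Function.Injective (EtCore.Hpull g S.X₂ 0)) :
    Function.Injective (EtCore.Hpull g S.X₁ 0) := by
  haveI := hS.mono_f
  intro x y e
  apply H0_map_injective S.f
  apply h2
  rw [Hpull_map g S.f x, Hpull_map g S.f y, e]

theorem surjective_zero (h2 : Function.Surjective (EtCore.Hpull g S.X₂ 0))
    (h3 : Function.Injective (EtCore.Hpull g S.X₃ 0)) : Function.Surjective (EtCore.Hpull g S.X₁ 0) := by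
  have hS' := hS.map_of_exact (EtCoh.pull g)
  haveI : Mono ((EtCoh.pull g).map S.f) := hS'.mono_f
  intro a'
  obtain ⟨e, he⟩ := h2 (Sheaf.H.map ((EtCoh.pull g).map S.f) 0 a')
  have hge : Sheaf.H.map S.g 0 e = 0 := by
    refine h3 ?_
    rw [Hpull_map g S.g e, he, map_zero]
    show (Ext.comp a' (Ext.mk₀ ((EtCoh.pull g).map S.f)) (add_zero _)).comp (Ext.mk₀ ((EtCoh.pull g).map S.g))
      (add_zero _) = 0
    rw [Ext.comp_assoc_of_second_deg_zero, Ext.mk₀_comp_mk₀, ← Functor.map_comp, S.zero, Functor.map_zero,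
      Ext.mk₀_zero, Ext.comp_zero]
  obtain ⟨a₀, rfl⟩ := Ext.covariant_sequence_exact₂ _ hS e hge
  refine ⟨a₀, H0_map_injective ((EtCoh.pull g).map S.f) ?_⟩
  exact (Hpull_map g S.f a₀).symm.trans he

end Zero

variable {X Y Xb Yb : Scheme.{u}} (h : Y ⟶ X) (p : Xb ⟶ X) (hb : Yb ⟶ Xb) (pY : Yb ⟶ Y)
  (w : hb ≫ p = pY ≫ h) [PreservesFiniteLimits (EtCoh.pull h)] [PreservesFiniteLimits (EtCoh.pull hb)]
  {L : Set ℕ} {n : ℕ}

/-- The comparison condition for the direct image of an acyclic sheaf. -/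
theorem cmpAt_push (hhb : EtAcyc.CompN hb L n) (E : EtCoh.Ab Xb) (hE : EtAcyc.IsLTorsion L E)
    (hR : ∀ r : ℕ, IsZero ((EtCoh.Rpush p (r + 1)).obj E))
    (hR' : ∀ r : ℕ, r + 1 < n → IsZero ((EtCoh.Rpush pY (r + 1)).obj ((EtCoh.pull hb).obj E)))
    (hbc : IsIso (EtCoh.baseChange0 p h pY hb w E)) (q : ℕ) :
    CmpAt h n ((EtCoh.push p).obj E) q := by
  haveI := S0101.result p
  haveI := S0101.result pY
  have hp := (AcycCompLib.bijective_HofPush p E q q fun r h1 _ => by
    obtain ⟨r, rfl⟩ := Nat.exists_eq_succ_of_ne_zero (Nat.one_le_iff_ne_zero.1 h1)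
    exact hR r).1 le_rfl
  have hsq : ⇑(EtCore.Hpull hb E q) ∘ ⇑(EtLim.HofPush p E q) =
      (⇑(EtLim.HofPush pY ((EtCoh.pull hb).obj E) q) ∘
        ⇑((EtCoh.HF Y q).map (EtCoh.baseChange0 p h pY hb w E)).hom) ∘ ⇑(EtCore.Hpull h ((EtCoh.push p).obj E) q) :=
    funext fun x => Hpull_HofPush h p hb pY w E q x
  have hiso : Function.Bijective ⇑((EtCoh.HF Y q).map (EtCoh.baseChange0 p h pY hb w E)).hom :=
    ConcreteCategory.bijective_of_isIso ((EtCoh.HF Y q).map (EtCoh.baseChange0 p h pY hb w E))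
  obtain ⟨hb₁, hb₂⟩ := hhb _ hE
  constructor
  · intro hq
    have hY : Function.Injective (EtLim.HofPush pY ((EtCoh.pull hb).obj E) q) :=
      (AcycCompLib.bijective_HofPush pY _ q (q - 1) fun r h1 h2 => by
        obtain ⟨r, rfl⟩ := Nat.exists_eq_succ_of_ne_zero (Nat.one_le_iff_ne_zero.1 h1)
        exact hR' r (by omega)).2 (by omega)
    have hc := (hb₁ q hq).comp hp
    rw [hsq] at hc
    refine ⟨Function.Injective.of_comp hc.1, ?_⟩
    exact (Function.Surjective.of_comp_left hc.2 (hY.comp hiso.1))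
  · intro hq
    have hinj : Function.Injective (EtCore.Hpull hb E q) := by
      rcases Nat.lt_or_ge n q with hlt | hge
      · rwa [show q = n + 1 by omega]
      · exact (hb₁ q hge).1
    have hc := hinj.comp hp.1
    rw [hsq] at hc
    exact Function.Injective.of_comp hc

/-- The comparison condition descends, for sheaves killed by `N`. -/
theorem cmpAt_descent [Surjective p] {N : ℕ} (hN : EtAcyc.PrimesIn L N) (hhb : EtAcyc.CompN hb L n)
    (hR : ∀ Fb : EtCoh.Ab Xb, EtCoh.KilledBy N Fb → ∀ r : ℕ, r + 1 < n → IsZero ((EtCoh.Rpush p (r + 1)).obj Fb) →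
      IsZero ((EtCoh.Rpush pY (r + 1)).obj ((EtCoh.pull hb).obj Fb)))
    (hbc : ∀ Fb : EtCoh.Ab Xb, EtCoh.KilledBy N Fb → IsIso (EtCoh.baseChange0 p h pY hb w Fb)) :
    ∀ (q : ℕ) (F : EtCoh.Ab X), EtCoh.KilledBy N F → CmpAt h n F q := by
  haveI : (EtCoh.pull p).Additive := (EtCoh.pullPushAdj p).left_adjoint_additive
  haveI : PreservesFiniteLimits (EtCoh.push p) :=
    (EtCoh.pullPushAdj p).rightAdjoint_preservesLimits.{0, 0}.preservesFiniteLimits
  have main : ∀ F : EtCoh.Ab X, EtCoh.KilledBy N F → ∃ (S : ShortComplex (EtCoh.Ab X)) (_ : S.X₁ = F),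
      S.ShortExact ∧ (∀ q, CmpAt h n S.X₂ q) ∧ EtCoh.KilledBy N S.X₃ := fun F hF => by
    have hFp : EtCoh.KilledBy N ((EtCoh.pull p).obj F) := by
      rw [FLCLib.killedBy_iff]
      refine Eq.trans ?_ ((congrArg (EtCoh.pull p).map ((FLCLib.killedBy_iff N F).1 hF)).trans
        (Functor.map_zero _ _ _))
      rw [Functor.map_nsmul, CategoryTheory.Functor.map_id]
    obtain ⟨E, v, hv, hE, hRE⟩ := BCVertLib.exists_killed_acyclic p hFp
    haveI : Mono ((EtCoh.push p).map v) := inferInstance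
    haveI := EtPtsLib.mono_unit_of_surjective p F
    let u : F ⟶ (EtCoh.push p).obj E := (EtCoh.pullPushAdj p).unit.app F ≫ (EtCoh.push p).map v
    exact ⟨ShortComplex.mk u (cokernel.π u) (cokernel.condition u), rfl,
      { exact := ShortComplex.exact_cokernel u
        mono_f := mono_comp _ _ },
      cmpAt_push h p hb pY w hhb E (isLTorsion_of_killedBy hN hE) hRE (fun r hr => hR E hE r hr (hRE r)) (hbc E hE),
      BCVertLib.killedBy_of_epi (cokernel.π u) (killedBy_push p hE)⟩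
  intro q
  induction q with
  | zero =>
    have hinj : ∀ F : EtCoh.Ab X, EtCoh.KilledBy N F → Function.Injective (EtCore.Hpull h F 0) := fun F hF => by
      obtain ⟨S, rfl, hS, h2, -⟩ := main F hF
      exact injective_zero h hS ((h2 0).2 (Nat.zero_le _))
    intro F hF
    refine ⟨fun _ => ⟨hinj F hF, ?_⟩, fun _ => hinj F hF⟩
    obtain ⟨S, rfl, hS, h2, h3⟩ := main F hF
    exact surjective_zero h hS ((h2 0).1 (Nat.zero_le n)).2 (hinj _ h3)
  | succ q ih =>
    have hinj : q ≤ n → ∀ F : EtCoh.Ab X, EtCoh.KilledBy N F → Function.Injective (EtCore.Hpull h F (q + 1)) := by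
      intro hq F hF
      obtain ⟨S, rfl, hS, h2, h3⟩ := main F hF
      exact injective_succ h hS hq (h2 q) (ih _ h3) (h2 (q + 1))
    intro F hF
    refine ⟨fun hq => ⟨hinj (by omega) F hF, ?_⟩, fun hq => hinj (by omega) F hF⟩
    obtain ⟨S, rfl, hS, h2, h3⟩ := main F hF
    exact surjective_succ h hS hq (ih _ h3) (h2 (q + 1)) (hinj (by omega) _ h3)

end Groth.Agent.CompBCLib
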