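import Groth.Agent.CompBCLib.Via
import Groth.Agent.CompBCLib.Torsion
import Groth.Agent.EtPtsLib.UnitMono

/-!
# Classes in the image of pullback, detected after a surjective base change
-/

set_option autoImplicit false
set_option backward.isDefEq.respectTransparency false
set_option backward.isDefEq.respectTransparency.types false
set_option linter.style.haveILetI false
set_option maxHeartbeats 1000000

universe u

open CategoryTheory CategoryTheory.Limits AlgebraicGeometry Opposite CategoryTheory.Abelian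
open Groth.Agent.EtLimLib

noncomputable section

namespace Groth.Agent.CompBCLib

/-- A class is pulled back as soon as it is so in a bigger sheaf, under the comparison condition. -/
theorem mem_range_of_mono {X Y : Scheme.{u}} (h : Y ⟶ X) [PreservesFiniteLimits (EtCoh.pull h)] {n : ℕ}
    {S : ShortComplex (EtCoh.Ab X)} (hS : S.ShortExact)
    (hb : Function.Bijective (EtCore.Hpull h S.X₃ n)) (hi : Function.Injective (EtCore.Hpull h S.X₃ (n + 1)))
    (ξ : EtCoh.H Y ((EtCoh.pull h).obj S.X₁) (n + 1)) (w : EtCoh.H X S.X₂ (n + 1))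
    (hw : EtCore.Hpull h S.X₂ (n + 1) w = Sheaf.H.map ((EtCoh.pull h).map S.f) (n + 1) ξ) :
    ξ ∈ Set.range (EtCore.Hpull h S.X₁ (n + 1)) := by
  have hS' := hS.map_of_exact (EtCoh.pull h)
  have hg : Sheaf.H.map S.g (n + 1) w = 0 := by
    refine hi ?_
    rw [Hpull_map h S.g w, hw, map_zero]
    refine (H_map_map _ _ (n + 1) ξ).trans ?_
    rw [← Functor.map_comp, S.zero, Functor.map_zero]
    show Ext.comp ξ (Ext.mk₀ 0) (add_zero (n + 1)) = 0
    rw [Ext.mk₀_zero, Ext.comp_zero]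
  obtain ⟨v, rfl⟩ := Ext.covariant_sequence_exact₂ _ hS w hg
  have hd : Sheaf.H.map ((EtCoh.pull h).map S.f) (n + 1) (ξ - EtCore.Hpull h S.X₁ (n + 1) v) = 0 := by
    rw [map_sub, ← hw, sub_eq_zero]
    exact Hpull_map h S.f v
  obtain ⟨b', hb'⟩ := Ext.covariant_sequence_exact₁ _ hS' _ hd (rfl : n + 1 = n + 1)
  obtain ⟨b, rfl⟩ := hb.2 b'
  refine ⟨v + b.comp hS.extClass rfl, ?_⟩
  rw [map_add, Hpull_δ h hS b]
  exact (congrArg (EtCore.Hpull h S.X₁ (n + 1) v + ·) hb').trans (add_sub_cancel _ _)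

variable {X Y Xb Yb : Scheme.{u}} (h : Y ⟶ X) (p : Xb ⟶ X) (hb : Yb ⟶ Xb) (pY : Yb ⟶ Y)
  (w : hb ≫ p = pY ≫ h) [PreservesFiniteLimits (EtCoh.pull h)] [PreservesFiniteLimits (EtCoh.pull hb)]
  [PreservesFiniteLimits (EtCoh.pull pY)] {L : Set ℕ} {n : ℕ}

theorem H_map_transfer {Z : Scheme.{u}} {P Q M N : EtCoh.Ab Z} (τ₁ : P ≅ M) (τ₂ : Q ≅ M) (v : Q ⟶ N) (k : ℕ)
    (x : EtCoh.H Z P k) (y : EtCoh.H Z Q k) (e : Sheaf.H.map τ₁.hom k x = Sheaf.H.map τ₂.hom k y) :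
    Sheaf.H.map ((τ₁.hom ≫ τ₂.inv) ≫ v) k x = Sheaf.H.map v k y := by
  rw [← H_map_map, ← H_map_map τ₁.hom τ₂.inv, e, H_map_map, H_map_map, τ₂.hom_inv_id_assoc]

theorem HofPush_map_transpose {A B : Scheme.{u}} (f : A ⟶ B) [PreservesFiniteLimits (EtCoh.pull f)] {G : EtCoh.Ab B}
    {N : EtCoh.Ab A} (a : G ⟶ (EtCoh.push f).obj N) (ρ : (EtCoh.pull f).obj G ⟶ N)
    (e : a = (EtCoh.pullPushAdj f).homEquiv _ _ ρ) (k : ℕ) (x : EtCoh.H B G k) :
    EtLim.HofPush f N k (Sheaf.H.map a k x) = Sheaf.H.map ρ k (EtCore.Hpull f G k x) := by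
  rw [HofPush_map_eq, e, Equiv.symm_apply_apply]
  rfl

omit [PreservesFiniteLimits (EtCoh.pull h)] [PreservesFiniteLimits (EtCoh.pull hb)]
  [PreservesFiniteLimits (EtCoh.pull pY)] in
theorem pull_map_baseChange0 (F : EtCoh.Ab X) {E : EtCoh.Ab Xb} (v : (EtCoh.pull p).obj F ⟶ E) :
    (EtCoh.pull h).map ((EtCoh.pullPushAdj p).unit.app F ≫ (EtCoh.push p).map v) ≫
        EtCoh.baseChange0 p h pY hb w E =
      (EtCoh.pullPushAdj pY).homEquiv _ _
        (((((EtCore.pullComp pY h).symm ≪≫ EtCore.pullCongr (rfl : pY ≫ h = pY ≫ h)).app F).hom ≫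
          (((EtCore.pullComp hb p).symm ≪≫ EtCore.pullCongr w).app F).inv) ≫ (EtCoh.pull hb).map v) := by
  rw [Adjunction.homEquiv_unit, Functor.map_comp (EtCoh.push pY), ← Category.assoc,
    ← pull_unit_baseChange0 p h pY hb w F, Category.assoc]
  refine (congrArg (· ≫ EtCoh.baseChange0 p h pY hb w E) ((EtCoh.pull h).map_comp _ _)).trans
    ((Category.assoc _ _ _).trans ?_)
  exact congrArg ((EtCoh.pull h).map ((EtCoh.pullPushAdj p).unit.app F) ≫ ·)
    (AcycCompLib.baseChange0_natural p h pY hb w v)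

/-- The diagram chase. -/
theorem HofPush_bc_of_via (F : EtCoh.Ab X) {E : EtCoh.Ab Xb} (v : (EtCoh.pull p).obj F ⟶ E) (k : ℕ)
    (ξ : EtCoh.H Y ((EtCoh.pull h).obj F) k) (z : EtCoh.H Xb ((EtCoh.pull p).obj F) k)
    (hz : EtCore.HpullVia pY h (pY ≫ h) rfl F k ξ = EtCore.HpullVia hb p (pY ≫ h) w F k z) :
    EtLim.HofPush pY ((EtCoh.pull hb).obj E) k (Sheaf.H.map (EtCoh.baseChange0 p h pY hb w E) k
        (Sheaf.H.map ((EtCoh.pull h).map ((EtCoh.pullPushAdj p).unit.app F ≫ (EtCoh.push p).map v)) k ξ)) =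
      EtCore.Hpull hb E k (Sheaf.H.map v k z) := by
  refine (congrArg (EtLim.HofPush pY ((EtCoh.pull hb).obj E) k) (H_map_map _ _ k ξ)).trans ?_
  refine (HofPush_map_transpose pY _ _ (pull_map_baseChange0 h p hb pY w F v) k ξ).trans ?_
  refine Eq.trans ?_ (Hpull_map hb v z).symm
  exact H_map_transfer _ _ _ k _ _ hz

/-- The case of a sheaf killed by an integer. -/
theorem mem_range_of_killed [Surjective p] {N : ℕ} (hN : EtAcyc.PrimesIn L N) (hh : EtAcyc.CompN h L n)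
    (hbc : ∀ Fb : EtCoh.Ab Xb, EtCoh.KilledBy N Fb → ∀ i : ℕ, i ≤ n → IsIso (EtBC.bcQ p h pY hb w i Fb))
    {F : EtCoh.Ab X} (hF : EtCoh.KilledBy N F) (ξ : EtCoh.H Y ((EtCoh.pull h).obj F) (n + 1))
    (z : EtCoh.H Xb ((EtCoh.pull p).obj F) (n + 1))
    (hz : EtCore.HpullVia pY h (pY ≫ h) rfl F (n + 1) ξ = EtCore.HpullVia hb p (pY ≫ h) w F (n + 1) z) :
    ξ ∈ Set.range (EtCore.Hpull h F (n + 1)) := by
  haveI := S0101.result p
  haveI : (EtCoh.pull p).Additive := (EtCoh.pullPushAdj p).left_adjoint_additive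
  have hFp : EtCoh.KilledBy N ((EtCoh.pull p).obj F) := by
    rw [FLCLib.killedBy_iff]
    refine Eq.trans ?_ ((congrArg (EtCoh.pull p).map ((FLCLib.killedBy_iff N F).1 hF)).trans (Functor.map_zero _ _ _))
    rw [Functor.map_nsmul, CategoryTheory.Functor.map_id]
  obtain ⟨E, v, hv, hE, hR⟩ := BCVertLib.exists_killed_acyclic p hFp
  haveI : PreservesFiniteLimits (EtCoh.push p) :=
    (EtCoh.pullPushAdj p).rightAdjoint_preservesLimits.{0, 0}.preservesFiniteLimits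
  haveI : Mono ((EtCoh.push p).map v) := inferInstance
  haveI := EtPtsLib.mono_unit_of_surjective p F
  let u : F ⟶ (EtCoh.push p).obj E := (EtCoh.pullPushAdj p).unit.app F ≫ (EtCoh.push p).map v
  have hS : (ShortComplex.mk u (cokernel.π u) (cokernel.condition u)).ShortExact :=
    { exact := ShortComplex.exact_cokernel u
      mono_f := mono_comp _ _ }
  haveI := isIso_baseChange0 h p hb pY w E (hbc E hE 0 (Nat.zero_le n))
  let bc := EtCoh.baseChange0 p h pY hb w E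
  let ξ₁ := Sheaf.H.map ((EtCoh.pull h).map u) (n + 1) ξ
  have hξ₁ := HofPush_bc_of_via h p hb pY w F v (n + 1) ξ z hz
  obtain ⟨x, hx⟩ := ((AcycCompLib.bijective_HofPush p E (n + 1) (n + 1) fun r h1 _ => by
    obtain ⟨r, rfl⟩ := Nat.exists_eq_succ_of_ne_zero (Nat.one_le_iff_ne_zero.1 h1)
    exact hR r).1 le_rfl).2 (Sheaf.H.map v (n + 1) z)
  have hinj : Function.Injective (EtLim.HofPush pY ((EtCoh.pull hb).obj E) (n + 1)) :=
    (AcycCompLib.bijective_HofPush pY _ (n + 1) n fun r h1 h2 => by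
      haveI := hbc E hE r h2
      obtain ⟨r, rfl⟩ := Nat.exists_eq_succ_of_ne_zero (Nat.one_le_iff_ne_zero.1 h1)
      haveI : (EtCoh.pull h).Additive := (EtCoh.pullPushAdj h).left_adjoint_additive
      exact ((EtCoh.pull h).map_isZero (hR r)).of_iso (asIso (EtBC.bcQ p h pY hb w (r + 1) E)).symm).2 le_rfl
  have hx₁ : EtCore.Hpull h ((EtCoh.push p).obj E) (n + 1) x = ξ₁ := by
    refine (ConcreteCategory.bijective_of_isIso ((EtCoh.HF Y (n + 1)).map bc)).1 (hinj ?_)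
    refine (Hpull_HofPush h p hb pY w E (n + 1) x).symm.trans ?_
    exact (congrArg (EtCore.Hpull hb E (n + 1)) hx).trans hξ₁.symm
  have hC := hh _ (isLTorsion_of_killedBy hN (BCVertLib.killedBy_of_epi (cokernel.π u) (killedBy_push p hE)))
  exact mem_range_of_mono h hS (hC.1 n le_rfl) hC.2 ξ x hx₁

/-- Passage to a stage of a filtered colimit. -/
theorem exists_stage [CompactSpace Y] [QuasiSeparatedSpace Y] [CompactSpace Xb] [QuasiSeparatedSpace Xb]
    [CompactSpace Yb] [QuasiSeparatedSpace Yb] {J : Type (u + 1)} [SmallCategory J] [IsFiltered J]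
    {D : J ⥤ EtCoh.Ab X} {c : Cocone D} (hc : IsColimit c) (k : ℕ)
    (ξ : EtCoh.H Y ((EtCoh.pull h).obj c.pt) k) (z : EtCoh.H Xb ((EtCoh.pull p).obj c.pt) k)
    (hz : EtCore.HpullVia hb p (pY ≫ h) w c.pt k z = EtCore.HpullVia pY h (pY ≫ h) rfl c.pt k ξ) :
    ∃ (j : J) (ξ' : EtCoh.H Y ((EtCoh.pull h).obj (D.obj j)) k) (z' : EtCoh.H Xb ((EtCoh.pull p).obj (D.obj j)) k),
      Sheaf.H.map ((EtCoh.pull h).map (c.ι.app j)) k ξ' = ξ ∧
        EtCore.HpullVia pY h (pY ≫ h) rfl (D.obj j) k ξ' = EtCore.HpullVia hb p (pY ≫ h) w (D.obj j) k z' := by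
  haveI : (EtCoh.pull h).IsLeftAdjoint := ⟨_, ⟨EtCoh.pullPushAdj h⟩⟩
  haveI : (EtCoh.pull p).IsLeftAdjoint := ⟨_, ⟨EtCoh.pullPushAdj p⟩⟩
  haveI : (EtCoh.pull (pY ≫ h)).IsLeftAdjoint := ⟨_, ⟨EtCoh.pullPushAdj (pY ≫ h)⟩⟩
  haveI := CohColim.preserves_HF Y k J
  haveI := CohColim.preserves_HF Xb k J
  haveI := CohColim.preserves_HF Yb k J
  obtain ⟨i₁, ξ', hξ'⟩ := Concrete.isColimit_exists_rep _
    (isColimitOfPreserves (EtCoh.HF Y k) (isColimitOfPreserves (EtCoh.pull h) hc)) ξ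
  obtain ⟨i₂, z', hz'⟩ := Concrete.isColimit_exists_rep _
    (isColimitOfPreserves (EtCoh.HF Xb k) (isColimitOfPreserves (EtCoh.pull p) hc)) z
  change Sheaf.H.map ((EtCoh.pull h).map (c.ι.app i₁)) k ξ' = ξ at hξ'
  change Sheaf.H.map ((EtCoh.pull p).map (c.ι.app i₂)) k z' = z at hz'
  subst hξ' hz'
  replace hz : Sheaf.H.map ((EtCoh.pull (pY ≫ h)).map (c.ι.app i₁)) k
        (EtCore.HpullVia pY h (pY ≫ h) rfl (D.obj i₁) k ξ') =
      Sheaf.H.map ((EtCoh.pull (pY ≫ h)).map (c.ι.app i₂)) k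
        (EtCore.HpullVia hb p (pY ≫ h) w (D.obj i₂) k z') :=
    (HpullVia_natural h pY _ rfl (c.ι.app i₁) k ξ').symm.trans
      (hz.symm.trans (HpullVia_natural p hb _ w (c.ι.app i₂) k z'))
  obtain ⟨j, a, b, hab⟩ := (Concrete.isColimit_rep_eq_iff_exists _
    (isColimitOfPreserves (EtCoh.HF Yb k) (isColimitOfPreserves (EtCoh.pull (pY ≫ h)) hc)) _ _).1 hz
  refine ⟨j, Sheaf.H.map ((EtCoh.pull h).map (D.map a)) k ξ', Sheaf.H.map ((EtCoh.pull p).map (D.map b)) k z', ?_,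
    ((HpullVia_natural h pY _ rfl (D.map a) k ξ').trans hab).trans (HpullVia_natural p hb _ w (D.map b) k z').symm⟩
  refine (H_map_map _ _ _ ξ').trans ?_
  rw [← Functor.map_comp, c.w a]
  rfl

variable [CompactSpace X] [QuasiSeparatedSpace X] [CompactSpace Y] [QuasiSeparatedSpace Y]
  [CompactSpace Xb] [QuasiSeparatedSpace Xb] [CompactSpace Yb] [QuasiSeparatedSpace Yb]

/-- The range criterion. -/
theorem mem_range_iff [Surjective p] (hh : EtAcyc.CompN h L n)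
    (hbc : ∀ Fb : EtCoh.Ab Xb, EtAcyc.IsLTorsion L Fb → ∀ i : ℕ, i ≤ n → IsIso (EtBC.bcQ p h pY hb w i Fb))
    (F : EtCoh.Ab X) (hF : EtAcyc.IsLTorsion L F) (ξ : EtCoh.H Y ((EtCoh.pull h).obj F) (n + 1)) :
    ξ ∈ Set.range (EtCore.Hpull h F (n + 1)) ↔
      EtCore.HpullVia pY h (pY ≫ h) rfl F (n + 1) ξ ∈
        Set.range (EtCore.HpullVia hb p (pY ≫ h) w F (n + 1)) := by
  haveI := S0101.result p
  haveI := S0101.result (pY ≫ h)
  constructor
  · rintro ⟨x, rfl⟩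
    exact ⟨EtCore.Hpull p F (n + 1) x, (HpullVia_Hpull p hb _ w F (n + 1) x).trans
      (HpullVia_Hpull h pY _ rfl F (n + 1) x).symm⟩
  rintro ⟨z, hz⟩
  have H := sysHyp hF
  haveI := H.isFiltered
  obtain ⟨hc⟩ := H.nonempty_isColimit (RpushTorsLib.isTorsion_of_isLTorsion hF)
  obtain ⟨k, ξ', z', hξ', hz'⟩ := exists_stage h p hb pY w hc (n + 1) ξ z hz
  obtain ⟨N, hN, hk⟩ := k.hP.2
  obtain ⟨x, hx⟩ := mem_range_of_killed h p hb pY w hN hh
    (fun Fb hFb => hbc Fb (isLTorsion_of_killedBy hN hFb)) hk ξ' z' hz'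
  refine ⟨Sheaf.H.map (k.g) (n + 1) x, ?_⟩
  refine (Hpull_map h k.g x).trans (Eq.trans ?_ hξ')
  exact congrArg (Sheaf.H.map ((EtCoh.pull h).map k.g) (n + 1)) hx

end Groth.Agent.CompBCLib
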