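import Groth.Agent.AcycCompLib.Criterion
import Groth.Agent.BCVertLib.Square
import Groth.Prelude.Def_EtBC2

/-!
# Pullback of classes coming from direct images, across a square
-/

set_option autoImplicit false
set_option backward.isDefEq.respectTransparency false
set_option backward.isDefEq.respectTransparency.types false
set_option linter.style.haveILetI false
set_option maxHeartbeats 1000000

universe u

open CategoryTheory CategoryTheory.Limits AlgebraicGeometry Opposite CategoryTheory.Abelian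
open Groth.Agent.EtLimLib Groth.Agent.BCVertLib

noncomputable section

namespace Groth.Agent.CompBCLib

variable {X Y Xb Yb : Scheme.{u}} (h : Y ⟶ X) (p : Xb ⟶ X) (hb : Yb ⟶ Xb) (pY : Yb ⟶ Y)
  (w : hb ≫ p = pY ≫ h)

/-- `H^i(X, p_* G) → H^i(Xb, G) → H^i(Yb, hb⁻¹ G)` is the composite through `Y` and the base change morphism. -/
theorem Hpull_HofPush [PreservesFiniteLimits (EtCoh.pull h)] [PreservesFiniteLimits (EtCoh.pull p)]
    [PreservesFiniteLimits (EtCoh.pull hb)] [PreservesFiniteLimits (EtCoh.pull pY)]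
    (G : EtCoh.Ab Xb) (i : ℕ) (x : EtCoh.H X ((EtCoh.push p).obj G) i) :
    EtCore.Hpull hb G i (EtLim.HofPush p G i x) =
      EtLim.HofPush pY ((EtCoh.pull hb).obj G) i
        (Sheaf.H.map (EtCoh.baseChange0 p h pY hb w G) i (EtCore.Hpull h ((EtCoh.push p).obj G) i x)) := by
  haveI : PreservesFiniteLimits (EtCoh.pull (pY ≫ h)) := S0101.result _
  let m : Yb ⟶ X := pY ≫ h
  let N := (EtCoh.pull hb).obj G
  let raw : (EtCoh.push p).obj G ⟶ (EtCoh.push m).obj N :=
    (EtCoh.push p).map ((EtCoh.pullPushAdj hb).unit.app G) ≫ pushJoin p hb m w N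
  let γ := ((EtCoh.pullPushAdj m).homEquiv _ _).symm raw
  let ε : (EtCoh.pull p).obj ((EtCoh.push p).obj G) ⟶ G := (EtCoh.pullPushAdj p).counit.app G
  have hε : (EtCoh.pullPushAdj p).homEquiv _ _ ε = 𝟙 _ :=
    (Adjunction.homEquiv_unit _ _ _ _).trans ((EtCoh.pullPushAdj p).right_triangle_components G)
  have e1 : EtLim.HpullThen m _ γ i x =
      EtLim.HpullThen hb G (𝟙 N) i (EtLim.HpullThen p _ ε i x) := by
    refine HpullThen_comp p hb m w ε (𝟙 N) γ ?_ i x
    rw [hε, Category.id_comp]
    refine (Equiv.apply_symm_apply _ _).trans ?_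
    exact congrArg (fun a => (EtCoh.push p).map a ≫ pushJoin p hb m w N) (Adjunction.homEquiv_id _ _).symm
  let bc := EtCoh.baseChange0 p h pY hb w G
  have e2 : EtLim.HpullThen m _ γ i x =
      EtLim.HpullThen pY _ (((EtCoh.pullPushAdj pY).homEquiv _ _).symm bc) i
        (EtLim.HpullThen h _ (𝟙 _) i x) := by
    refine HpullThen_comp h pY m rfl (𝟙 _) (((EtCoh.pullPushAdj pY).homEquiv _ _).symm bc) γ ?_ i x
    refine (Equiv.apply_symm_apply _ _).trans (Eq.symm ?_)
    refine (congrArg (fun a => (EtCoh.pullPushAdj h).homEquiv _ _ (𝟙 _) ≫ (EtCoh.push h).map a ≫ pushJoin h pY m rfl N)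
      (Equiv.apply_symm_apply _ bc)).trans ?_
    have hmate : (EtCoh.pullPushAdj h).homEquiv _ _ bc =
        (EtCoh.push p).map ((EtCoh.pullPushAdj hb).unit.app G) ≫ (sqNat p h pY hb w).hom.app N :=
      Equiv.apply_symm_apply _ _
    refine ((Category.assoc _ _ _).symm.trans (congrArg (· ≫ pushJoin h pY m rfl N) ?_)).trans
      ((Category.assoc _ _ _).trans (congrArg ((EtCoh.push p).map ((EtCoh.pullPushAdj hb).unit.app G) ≫ ·)
        (sqNat_comp p h pY hb w N)))
    exact ((Adjunction.homEquiv_naturality_right _ (𝟙 _) bc).symm.trans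
      (congrArg _ (Category.id_comp bc))).trans hmate
  refine Eq.trans ?_ (e1.symm.trans e2 |>.trans ?_)
  · exact (KPi1Lib.HpullThen_id' hb G i _).symm
  · rw [KPi1Lib.HpullThen_id']
    exact (HofPush_map_eq pY bc i _).symm

end Groth.Agent.CompBCLib
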