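import Groth.Agent.CompBCLib.Killed
import Groth.Agent.BCDLib.Basic
import Mathlib.CategoryTheory.Abelian.Injective.Extend
import Mathlib.Algebra.Homology.DerivedCategory.FullyFaithful

/-!
# Derived base change of a single sheaf, in terms of direct images
-/

set_option autoImplicit false
set_option backward.isDefEq.respectTransparency false
set_option backward.isDefEq.respectTransparency.types false
set_option linter.style.haveILetI false
set_option maxHeartbeats 1000000

universe w v u

open CategoryTheory CategoryTheory.Limits AlgebraicGeometry Groth.Agent.KInj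

attribute [local instance] HasDerivedCategory.standard

noncomputable section

namespace Groth.Agent.CompBCLib

section General

variable {A : Type u} [Category.{v} A] [Abelian A] [HasDerivedCategory.{w} A]

theorem isIso_H_Qh_iff {K L : CochainComplex A ℤ} (ψ : K ⟶ L) (i : ℤ) :
    IsIso ((DerivedCategory.homologyFunctor A i).map
      (DerivedCategory.Qh.map ((HomotopyCategory.quotient A (ComplexShape.up ℤ)).map ψ))) ↔ QuasiIsoAt ψ i := by
  rw [quasiIsoAt_iff_isIso_homologyMap]
  exact NatIso.isIso_map_iff ((Functor.associator _ _ _).symm ≪≫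
    Functor.isoWhiskerRight (DerivedCategory.quotientCompQhIso A) _ ≪≫ DerivedCategory.homologyFunctorFactors A i) ψ

theorem isZero_H_Qh_iff (K : CochainComplex A ℤ) (i : ℤ) :
    IsZero ((DerivedCategory.homologyFunctor A i).obj
      (DerivedCategory.Qh.obj ((HomotopyCategory.quotient A (ComplexShape.up ℤ)).obj K))) ↔ K.ExactAt i := by
  rw [HomologicalComplex.exactAt_iff_isZero_homology]
  exact (((Functor.associator _ _ _).symm ≪≫ Functor.isoWhiskerRight (DerivedCategory.quotientCompQhIso A) _ ≪≫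
    DerivedCategory.homologyFunctorFactors A i).app K).isZero_iff

variable {B : Type*} [Category* B] [Abelian B]

omit [HasDerivedCategory A] in
/-- A left exact functor preserves quasi-isomorphisms in degree `0` out of a complex concentrated in degree `0`. -/
theorem quasiIsoAt_map (G : B ⥤ A) [G.Additive] [PreservesFiniteLimits G] {K C : CochainComplex B ℤ} (φ : K ⟶ C)
    [QuasiIso φ] (hK : IsZero (K.X (-1))) (hK' : IsZero (K.X 1)) (hC : IsZero (C.X (-1))) :
    QuasiIsoAt ((G.mapHomologicalComplex (ComplexShape.up ℤ)).map φ) 0 := by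
  have h0 : QuasiIsoAt φ 0 := inferInstance
  rw [quasiIsoAt_iff' _ (-1) 0 1 (by simp) (by simp),
    ShortComplex.quasiIso_iff_of_zeros _ (hK.eq_of_src _ _) (hK'.eq_of_tgt _ _) (hC.eq_of_src _ _)] at h0
  rw [quasiIsoAt_iff' _ (-1) 0 1 (by simp) (by simp),
    ShortComplex.quasiIso_iff_of_zeros _ ((G.map_isZero hK).eq_of_src _ _) ((G.map_isZero hK').eq_of_tgt _ _)
      ((G.map_isZero hC).eq_of_src _ _)]
  haveI : Mono (φ.f 0) := h0.2
  exact ⟨h0.1.map_of_mono_of_preservesKernel G ‹_› inferInstance, inferInstanceAs (Mono (G.map (φ.f 0)))⟩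

omit [HasDerivedCategory A] in
theorem isIso_f_of_quasiIsoAt {K L : CochainComplex A ℤ} (ψ : K ⟶ L) [QuasiIsoAt ψ 0] (hK : IsZero (K.X (-1)))
    (hK' : IsZero (K.X 1)) (hL : IsZero (L.X (-1))) (hL' : IsZero (L.X 1)) : IsIso (ψ.f 0) := by
  have h0 : QuasiIsoAt ψ 0 := inferInstance
  rw [quasiIsoAt_iff' _ (-1) 0 1 (by simp) (by simp),
    ShortComplex.quasiIso_iff_of_zeros _ (hK.eq_of_src _ _) (hK'.eq_of_tgt _ _) (hL.eq_of_src _ _)] at h0
  haveI : Mono (ψ.f 0) := h0.2
  haveI : Epi (ψ.f 0) := h0.1.epi_f (hL'.eq_of_tgt _ _)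
  exact isIso_of_mono_of_epi _

omit [HasDerivedCategory A] in
/-- Exactness of the image of an injective resolution, on the two models. -/
theorem exactAt_map_cochainComplex_iff (G : B ⥤ A) [G.Additive] [HasInjectiveResolutions B] {F : B}
    (R : InjectiveResolution F) (k : ℕ) :
    ((G.mapHomologicalComplex (ComplexShape.up ℤ)).obj R.cochainComplex).ExactAt ((k + 1 : ℕ) : ℤ) ↔
      IsZero ((G.rightDerived (k + 1)).obj F) := by
  rw [(R.isoRightDerivedObj G (k + 1)).isZero_iff]
  refine Iff.trans ?_ (HomologicalComplex.exactAt_iff_isZero_homology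
    ((G.mapHomologicalComplex (ComplexShape.up ℕ)).obj R.cocomplex) (k + 1))
  rw [HomologicalComplex.exactAt_iff' _ (k : ℤ) ((k + 1 : ℕ) : ℤ) ((k + 2 : ℕ) : ℤ) (by simp) (by simp; omega),
    HomologicalComplex.exactAt_iff' _ k (k + 1) (k + 2) (by simp) (by simp)]
  refine ShortComplex.exact_iff_of_iso (ShortComplex.isoMk (G.mapIso (R.cochainComplexXIso _ k rfl))
    (G.mapIso (R.cochainComplexXIso _ (k + 1) rfl)) (G.mapIso (R.cochainComplexXIso _ (k + 2) rfl)) ?_ ?_)
  · show G.map _ ≫ G.map (R.cocomplex.d k (k + 1)) = G.map (R.cochainComplex.d _ _) ≫ G.map _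
    rw [← G.map_comp, ← G.map_comp, R.cochainComplex_d _ _ k (k + 1) rfl rfl]
    simp
  · show G.map _ ≫ G.map (R.cocomplex.d (k + 1) (k + 2)) = G.map (R.cochainComplex.d _ _) ≫ G.map _
    rw [← G.map_comp, ← G.map_comp, R.cochainComplex_d _ _ (k + 1) (k + 2) rfl rfl]
    simp

end General

section Square

variable {X Y Xb Yb : Scheme.{u}} (p : Xb ⟶ X) (h : Y ⟶ X) (pY : Yb ⟶ Y) (hb : Yb ⟶ Xb)
  (w : hb ≫ p = pY ≫ h) [PreservesFiniteLimits (EtCoh.pull h)] [PreservesFiniteLimits (EtCoh.pull hb)]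
  [DCoh.HasRpushEt Xb p] [DCoh.HasRpushEt Yb pY] [DCoh.HasRpushEt Y h]

omit [PreservesFiniteLimits (EtCoh.pull h)] [DCoh.HasRpushEt Xb p] [DCoh.HasRpushEt Y h] in
theorem θ_natural {K L : CochainComplex (EtCoh.Ab Xb) ℤ} (φ : K ⟶ L) :
    DerivedCategory.Qh.map ((BCDLib.pullH h).map ((BCDLib.pushH p).map ((HomotopyCategory.quotient _ _).map φ))) ≫
        BCDLib.θ p h pY hb w ((HomotopyCategory.quotient _ _).obj L) =
      BCDLib.θ p h pY hb w ((HomotopyCategory.quotient _ _).obj K) ≫
        (DCoh.RpushEt Yb pY).map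
          (DerivedCategory.Qh.map ((BCDLib.pullH hb).map ((HomotopyCategory.quotient _ _).map φ))) := by
  have hu := (BCDLib.unitR pY).naturality ((BCDLib.pullH hb).map ((HomotopyCategory.quotient _ _).map φ))
  dsimp only [Functor.comp_map] at hu
  rw [BCDLib.θ, BCDLib.θ, Category.assoc, ← hu, ← Category.assoc, ← DerivedCategory.Qh.map_comp]
  refine Eq.trans ?_ (Category.assoc _ _ _)
  refine congrArg (· ≫ _) ?_
  show _ = DerivedCategory.Qh.map _ ≫ DerivedCategory.Qh.map ((BCDLib.pushH pY).map _)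
  rw [← DerivedCategory.Qh.map_comp]
  refine congrArg DerivedCategory.Qh.map ?_
  refine ((HomotopyCategory.quotient _ _).map_comp _ _).symm.trans
    (Eq.trans ?_ ((HomotopyCategory.quotient _ _).map_comp _ _))
  exact congrArg (HomotopyCategory.quotient _ _).map
    ((NatTrans.mapHomologicalComplex (BCDLib.bc0N p h pY hb w) _).naturality φ)

/-- Homology of the base change morphism of a sheaf, on an injective resolution. -/
theorem isIso_H_θ_of_bcMap (adj : EtBC.pullD h ⊣ DCoh.RpushEt Y h) {F : EtCoh.Ab Xb}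
    (R : InjectiveResolution F) (i : ℤ)
    (hi : IsIso ((DerivedCategory.homologyFunctor (EtCoh.Ab Y) i).map
      (EtBC.bcMap p h pY hb w adj (EtBC.single Xb F)))) :
    IsIso ((DerivedCategory.homologyFunctor (EtCoh.Ab Y) i).map
      (BCDLib.θ p h pY hb w ((HomotopyCategory.quotient _ _).obj R.cochainComplex))) := by
  let Φ := DerivedCategory.homologyFunctor (EtCoh.Ab Y) i
  let K := DerivedCategory.Qh.obj ((HomotopyCategory.quotient _ (ComplexShape.up ℤ)).obj R.cochainComplex)
  let e : EtBC.single Xb F ≅ K :=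
    ((SingleFunctors.evaluation _ _ 0).mapIso (DerivedCategory.singleFunctorsPostcompQIso _)).app F ≪≫
      asIso (DerivedCategory.Q.map R.ι') ≪≫ (DerivedCategory.quotientCompQhIso _).symm.app R.cochainComplex
  obtain ⟨a', ha'⟩ := BCDLib.exists_adj p h pY hb w
  haveI : R.cochainComplex.IsKInjective := CochainComplex.isKInjective_of_injective R.cochainComplex 0
  haveI := BCDLib.isIso_unitR p R.cochainComplex
  have hnat : (EtBC.pullD h).map ((DCoh.RpushEt Xb p).map e.hom) ≫ EtBC.bcMap p h pY hb w adj K =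
      EtBC.bcMap p h pY hb w adj (EtBC.single Xb F) ≫ (DCoh.RpushEt Yb pY).map ((EtBC.pullD hb).map e.hom) := by
    rw [EtBC.bcMap, EtBC.bcMap, ← Adjunction.homEquiv_naturality_left_symm,
      ← Adjunction.homEquiv_naturality_right_symm]
    exact congrArg _ ((EtBC.bcAdj p h pY hb w).naturality e.hom)
  have h1 : IsIso (Φ.map (EtBC.bcMap p h pY hb w adj K)) := by
    haveI := hi
    have h2 := congrArg Φ.map hnat
    rw [Φ.map_comp, Φ.map_comp] at h2
    rw [← isIso_comp_left_iff (Φ.map ((EtBC.pullD h).map ((DCoh.RpushEt Xb p).map e.hom))), h2]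
    infer_instance
  have h3 : EtBC.bcMap p h pY hb w adj K =
      (adj.leftAdjointUniq a').hom.app _ ≫ EtBC.bcMap p h pY hb w a' K := by
    rw [EtBC.bcMap, Equiv.symm_apply_eq, BCVertLib.homEquiv_leftAdjointUniq_comp]
    exact (Equiv.apply_symm_apply _ _).symm
  rw [h3, Φ.map_comp, isIso_comp_left_iff,
    ← isIso_comp_left_iff (Φ.map ((EtBC.pullD h).map ((BCDLib.unitR p).app
      ((HomotopyCategory.quotient _ _).obj R.cochainComplex)))), ← Φ.map_comp] at h1
  have h4 := Eq.mp (congrArg (fun m => IsIso (Φ.map m)) (ha' _)) h1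
  rw [Φ.map_comp, Φ.map_comp, isIso_comp_left_iff, isIso_comp_right_iff] at h4
  exact h4

omit [PreservesFiniteLimits (EtCoh.pull h)] [DCoh.HasRpushEt Xb p] [DCoh.HasRpushEt Y h] in
/-- In positive degree: vanishing of direct images is inherited. -/
theorem isZero_Rpush_of_θ {F : EtCoh.Ab Xb} (R : InjectiveResolution F) (k : ℕ)
    [PreservesFiniteLimits (EtCoh.pull h)] (hR : IsZero ((EtCoh.Rpush p (k + 1)).obj F))
    (hθ : IsIso ((DerivedCategory.homologyFunctor (EtCoh.Ab Y) ((k + 1 : ℕ) : ℤ)).map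
      (BCDLib.θ p h pY hb w ((HomotopyCategory.quotient _ _).obj R.cochainComplex)))) :
    IsZero ((EtCoh.Rpush pY (k + 1)).obj ((EtCoh.pull hb).obj F)) := by
  haveI : (EtCoh.push p).Additive := (EtCoh.pullPushAdj p).right_adjoint_additive
  haveI : (EtCoh.push pY).Additive := (EtCoh.pullPushAdj pY).right_adjoint_additive
  let Φ := DerivedCategory.homologyFunctor (EtCoh.Ab Y) ((k + 1 : ℕ) : ℤ)
  let S := (CochainComplex.singleFunctor (EtCoh.Ab Xb) 0).obj F
  let F' := (EtCoh.pull hb).obj F
  let J := InjectiveResolution.of F'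
  have hsrc : IsZero (Φ.obj (DerivedCategory.Qh.obj ((BCDLib.pullH h).obj ((BCDLib.pushH p).obj
      ((HomotopyCategory.quotient _ _).obj R.cochainComplex))))) :=
    (isZero_H_Qh_iff (((EtCoh.pull h).mapHomologicalComplex _).obj
      (((EtCoh.push p).mapHomologicalComplex _).obj R.cochainComplex)) _).2
      (((exactAt_map_cochainComplex_iff (EtCoh.push p) R k).2 hR).map (EtCoh.pull h))
  haveI : QuasiIso (((EtCoh.pull hb).mapHomologicalComplex (ComplexShape.up ℤ)).map R.ι') := inferInstance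
  let e₁ : DerivedCategory.Q.obj (((EtCoh.pull hb).mapHomologicalComplex _).obj R.cochainComplex) ≅
      DerivedCategory.Q.obj J.cochainComplex :=
    (asIso (DerivedCategory.Q.map (((EtCoh.pull hb).mapHomologicalComplex _).map R.ι'))).symm ≪≫
      DerivedCategory.Q.mapIso ((HomologicalComplex.singleMapHomologicalComplex (EtCoh.pull hb)
        (ComplexShape.up ℤ) 0).app F) ≪≫ asIso (DerivedCategory.Q.map J.ι')
  haveI : J.cochainComplex.IsKInjective := CochainComplex.isKInjective_of_injective J.cochainComplex 0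
  haveI := BCDLib.isIso_unitR pY J.cochainComplex
  let e₂ : (DCoh.RpushEt Yb pY).obj (DerivedCategory.Qh.obj ((BCDLib.pullH hb).obj
      ((HomotopyCategory.quotient _ _).obj R.cochainComplex))) ≅
      DerivedCategory.Qh.obj ((BCDLib.pushH pY).obj ((HomotopyCategory.quotient _ _).obj J.cochainComplex)) :=
    (DCoh.RpushEt Yb pY).mapIso ((DerivedCategory.quotientCompQhIso _).app
        (((EtCoh.pull hb).mapHomologicalComplex _).obj R.cochainComplex) ≪≫ e₁ ≪≫
      (DerivedCategory.quotientCompQhIso _).symm.app J.cochainComplex) ≪≫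
      (asIso ((BCDLib.unitR pY).app ((HomotopyCategory.quotient _ _).obj J.cochainComplex))).symm
  have htgt := (hsrc.of_iso (asIso (Φ.map (BCDLib.θ p h pY hb w
    ((HomotopyCategory.quotient _ _).obj R.cochainComplex)))).symm).of_iso (Φ.mapIso e₂).symm
  exact (exactAt_map_cochainComplex_iff (EtCoh.push pY) J k).1
    ((isZero_H_Qh_iff (((EtCoh.push pY).mapHomologicalComplex _).obj J.cochainComplex) _).1 htgt)

omit [PreservesFiniteLimits (EtCoh.pull h)] [DCoh.HasRpushEt Xb p] [DCoh.HasRpushEt Y h] in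
/-- In degree zero: the base change morphism of sheaves is an isomorphism. -/
theorem isIso_baseChange0_of_θ {F : EtCoh.Ab Xb} (R : InjectiveResolution F)
    [PreservesFiniteLimits (EtCoh.pull h)]
    (hθ : IsIso ((DerivedCategory.homologyFunctor (EtCoh.Ab Y) 0).map
      (BCDLib.θ p h pY hb w ((HomotopyCategory.quotient _ _).obj R.cochainComplex)))) :
    IsIso (EtCoh.baseChange0 p h pY hb w F) := by
  haveI : (EtCoh.push p).Additive := (EtCoh.pullPushAdj p).right_adjoint_additive
  haveI : (EtCoh.push pY).Additive := (EtCoh.pullPushAdj pY).right_adjoint_additive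
  haveI : PreservesFiniteLimits (EtCoh.push p) :=
    (EtCoh.pullPushAdj p).rightAdjoint_preservesLimits.{0, 0}.preservesFiniteLimits
  haveI : PreservesFiniteLimits (EtCoh.push pY) :=
    (EtCoh.pullPushAdj pY).rightAdjoint_preservesLimits.{0, 0}.preservesFiniteLimits
  let Φ := DerivedCategory.homologyFunctor (EtCoh.Ab Y) 0
  let S := (CochainComplex.singleFunctor (EtCoh.Ab Xb) 0).obj F
  let q := HomotopyCategory.quotient (EtCoh.Ab Xb) (ComplexShape.up ℤ)
  let F' := (EtCoh.pull hb).obj F
  let J := InjectiveResolution.of F'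
  have z : ∀ i : ℤ, i ≠ 0 → IsZero (S.X i) := fun i hi => HomologicalComplex.isZero_single_obj_X _ _ _ _ hi
  have zC : IsZero (R.cochainComplex.X (-1)) := CochainComplex.isZero_of_isStrictlyGE _ 0 _ (by omega)
  have zJ : IsZero (J.cochainComplex.X (-1)) := CochainComplex.isZero_of_isStrictlyGE _ 0 _ (by omega)
  haveI : IsIso (Φ.map (DerivedCategory.Qh.map ((BCDLib.pullH h).map ((BCDLib.pushH p).map (q.map R.ι'))))) := by
    refine (isIso_H_Qh_iff (((EtCoh.pull h).mapHomologicalComplex _).map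
      (((EtCoh.push p).mapHomologicalComplex _).map R.ι')) 0).2 ?_
    haveI := quasiIsoAt_map (EtCoh.push p) R.ι' (z _ (by omega)) (z _ one_ne_zero) zC
    infer_instance
  haveI : QuasiIso (((EtCoh.pull hb).mapHomologicalComplex (ComplexShape.up ℤ)).map R.ι') := inferInstance
  haveI : IsIso (DerivedCategory.Qh.map ((BCDLib.pullH hb).map (q.map R.ι'))) := by
    refine (NatIso.isIso_map_iff (DerivedCategory.quotientCompQhIso _)
      (((EtCoh.pull hb).mapHomologicalComplex _).map R.ι')).2 ?_
    infer_instance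
  have hS : IsIso (Φ.map (BCDLib.θ p h pY hb w (q.obj S))) := by
    rw [← isIso_comp_right_iff _ (Φ.map ((DCoh.RpushEt Yb pY).map
      (DerivedCategory.Qh.map ((BCDLib.pullH hb).map (q.map R.ι'))))), ← Φ.map_comp,
      ← θ_natural p h pY hb w R.ι', Φ.map_comp]
    infer_instance
  let φ : ((EtCoh.pull hb).mapHomologicalComplex (ComplexShape.up ℤ)).obj S ⟶ J.cochainComplex :=
    (HomologicalComplex.singleMapHomologicalComplex (EtCoh.pull hb) (ComplexShape.up ℤ) 0).hom.app F ≫ J.ι'
  haveI : QuasiIso φ :=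
    haveI : IsIso ((HomologicalComplex.singleMapHomologicalComplex (EtCoh.pull hb)
      (ComplexShape.up ℤ) 0).hom.app F) := inferInstance
    quasiIso_comp _ _
  haveI : J.cochainComplex.IsKInjective := CochainComplex.isKInjective_of_injective J.cochainComplex 0
  haveI := BCDLib.isIso_unitR pY J.cochainComplex
  haveI : IsIso (Φ.map (DerivedCategory.Qh.map ((BCDLib.pushH pY).map
      ((HomotopyCategory.quotient _ (ComplexShape.up ℤ)).map φ)))) :=
    (isIso_H_Qh_iff (((EtCoh.push pY).mapHomologicalComplex _).map φ) 0).2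
      (quasiIsoAt_map (EtCoh.push pY) φ ((EtCoh.pull hb).map_isZero (z _ (by omega)))
        ((EtCoh.pull hb).map_isZero (z _ one_ne_zero)) zJ)
  haveI : IsIso (DerivedCategory.Qh.map ((HomotopyCategory.quotient _ (ComplexShape.up ℤ)).map φ)) := by
    refine (NatIso.isIso_map_iff (DerivedCategory.quotientCompQhIso _) φ).2 ?_
    infer_instance
  haveI : IsIso (Φ.map ((BCDLib.unitR pY).app ((BCDLib.pullH hb).obj (q.obj S)))) := by
    have hu := congrArg Φ.map ((BCDLib.unitR pY).naturality ((HomotopyCategory.quotient _ (ComplexShape.up ℤ)).map φ))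
    dsimp only [Functor.comp_map] at hu
    rw [Φ.map_comp, Φ.map_comp] at hu
    rw [← isIso_comp_right_iff _ (Φ.map ((DCoh.RpushEt Yb pY).map
      (DerivedCategory.Qh.map ((HomotopyCategory.quotient _ (ComplexShape.up ℤ)).map φ))))]
    exact Eq.mp (congrArg IsIso hu) inferInstance
  rw [BCDLib.θ, Φ.map_comp, isIso_comp_right_iff] at hS
  let ψ := (NatTrans.mapHomologicalComplex (BCDLib.bc0N p h pY hb w) (ComplexShape.up ℤ)).app S
  haveI : QuasiIsoAt ψ 0 := (isIso_H_Qh_iff ψ 0).1 hS
  haveI : IsIso (EtCoh.baseChange0 p h pY hb w (S.X 0)) :=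
    isIso_f_of_quasiIsoAt ψ ((EtCoh.push p ⋙ EtCoh.pull h).map_isZero (z _ (by omega)))
      ((EtCoh.push p ⋙ EtCoh.pull h).map_isZero (z _ one_ne_zero))
      ((EtCoh.pull hb ⋙ EtCoh.push pY).map_isZero (z _ (by omega)))
      ((EtCoh.pull hb ⋙ EtCoh.push pY).map_isZero (z _ one_ne_zero))
  exact (NatTrans.isIso_app_iff_of_iso (BCDLib.bc0N p h pY hb w)
    (HomologicalComplex.singleObjXSelf (ComplexShape.up ℤ) 0 F)).1 ‹_›

end Square

end Groth.Agent.CompBCLib
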